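import Groth.Agent.S7708
import Groth.Agent.S7701
import Groth.Agent.S7696
import Groth.Agent.S7703
import Groth.Agent.S7692
import Groth.Agent.S0342
import Groth.Agent.TFDualLib.Ext
import Groth.Agent.DepthTwoLib.Reflexive
import Groth.Agent.InjHullLib.Basic
import Mathlib.RingTheory.UniqueFactorizationDomain.Kaplansky

/-! # Factorial Cohen–Macaulay quotients of Gorenstein rings are Gorenstein -/

set_option autoImplicit false
set_option backward.isDefEq.respectTransparency false
set_option backward.isDefEq.respectTransparency.types false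
set_option linter.style.haveILetI false

universe u

open IsLocalRing

namespace MurthyLib

variable {C : Type u} [CommRing C] [IsDomain C]

/-- A finite torsion-free module with scalar endomorphisms only is isomorphic to an ideal. -/
theorem exists_ideal_equiv (K : Type u) [AddCommGroup K] [Module C K] [Module.Finite C K] [Nontrivial K]
    [NoZeroSMulDivisors C K] (hEnd : ∀ θ : K →ₗ[C] K, ∃ r : C, θ = r • LinearMap.id) :
    ∃ I : Ideal C, I ≠ ⊥ ∧ Nonempty (K ≃ₗ[C] I) := by
  obtain ⟨n, f, hf⟩ := Groth.Agent.TFDualLib.exists_injective_pi (O := C) (FractionRing C) K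
  obtain ⟨y, hy⟩ := exists_ne (0 : K)
  obtain ⟨i, hi⟩ : ∃ i, f y i ≠ 0 := by
    by_contra! h
    exact hy (hf ((funext h).trans (map_zero f).symm))
  let ψ : K →ₗ[C] C := (LinearMap.proj i).comp f
  have hψ : Function.Injective ψ := by
    refine LinearMap.ker_eq_bot.1 ((Submodule.eq_bot_iff _).2 fun x hx => by_contra fun hx0 => ?_)
    obtain ⟨r, hr⟩ := hEnd (ψ.smulRight x)
    have h1 : r • x = 0 := by
      have := LinearMap.congr_fun hr x
      rw [LinearMap.smulRight_apply, LinearMap.mem_ker.1 hx, zero_smul, LinearMap.smul_apply, LinearMap.id_apply] at this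
      exact this.symm
    have h2 : ψ y • x = r • y := LinearMap.congr_fun hr y
    rw [(eq_zero_or_eq_zero_of_smul_eq_zero h1).resolve_right hx0, zero_smul] at h2
    exact hi ((eq_zero_or_eq_zero_of_smul_eq_zero h2).resolve_right hx0)
  refine ⟨LinearMap.range ψ, fun h => hi ?_, ⟨LinearEquiv.ofInjective ψ hψ⟩⟩
  have : ψ y ∈ (⊥ : Ideal C) := h ▸ LinearMap.mem_range_self ψ y
  exact this

/-- A nonzero ideal with `(S₂)` in a factorial domain is principal. -/
theorem nonempty_equiv_ring [IsNoetherianRing C] [UniqueFactorizationMonoid C] (I : Ideal C) (hI : I ≠ ⊥)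
    (K : Type u) [AddCommGroup K] [Module C K] [Module.Finite C K] (e : K ≃ₗ[C] I) (hS : LocCoh.HasSk 2 C K) :
    Nonempty (K ≃ₗ[C] C) := by
  classical
  -- descend along principal factors
  revert K
  refine (wellFounded_gt (α := Ideal C)).induction (C := fun I => I ≠ ⊥ → ∀ (K : Type u) [AddCommGroup K] [Module C K]
    [Module.Finite C K] (_ : K ≃ₗ[C] I), LocCoh.HasSk 2 C K → Nonempty (K ≃ₗ[C] C)) I ?_ hI
  intro I ih hI K _ _ _ e hS
  by_cases htop : I = ⊤
  · exact ⟨e.trans ((LinearEquiv.ofEq _ _ htop).trans Submodule.topEquiv)⟩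
  by_cases hp : ∃ q : C, Prime q ∧ I ≤ Ideal.span {q}
  · obtain ⟨q, hq, hIq⟩ := hp
    let I' : Ideal C := Submodule.comap (LinearMap.mulLeft C q) I
    have hle : I ≤ I' := fun x hx => I.mul_mem_left q hx
    have hne : I ≠ I' := fun h => by
      -- otherwise `q I = I`
      have hsub : I ≤ Ideal.span {q} • I := fun x hx => by
        obtain ⟨a, rfl⟩ := Ideal.mem_span_singleton.1 (hIq hx)
        exact Submodule.smul_mem_smul (Ideal.mem_span_singleton_self q) (h ▸ hx)
      obtain ⟨r, hr1, hr⟩ := Submodule.exists_sub_one_mem_and_smul_eq_zero_of_fg_of_le_smul (Ideal.span {q}) I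
        (IsNoetherian.noetherian I) hsub
      obtain ⟨x, hx, hx0⟩ := Submodule.exists_mem_ne_zero_of_ne_bot hI
      have hr0 : r = 0 := (mul_eq_zero.1 (hr x hx)).resolve_right hx0
      rw [hr0, zero_sub, Ideal.neg_mem_iff, Ideal.mem_span_singleton] at hr1
      exact hq.not_dvd_one hr1
    let e' : I' ≃ₗ[C] I := LinearEquiv.ofBijective
      ((LinearMap.mulLeft C q).restrict (fun x hx => hx))
      ⟨fun x y h => Subtype.ext (mul_left_cancel₀ hq.ne_zero (congrArg Subtype.val h)), fun x => by
        obtain ⟨a, ha⟩ := Ideal.mem_span_singleton.1 (hIq x.2)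
        exact ⟨⟨a, show q * a ∈ I from ha ▸ x.2⟩, Subtype.ext ha.symm⟩⟩
    exact ih I' (lt_of_le_of_ne hle hne) (fun h => hI (le_bot_iff.1 (h ▸ hle))) K (e.trans e'.symm) hS
  exfalso
  push Not at hp
  have hsupp : ∀ P : PrimeSpectrum C, P ∈ Module.support C K := fun P => by
    obtain ⟨x, hx, hx0⟩ := Submodule.exists_mem_ne_zero_of_ne_bot hI
    refine Module.mem_support_iff'.2 ⟨e.symm ⟨x, hx⟩, fun r hr h => hr ?_⟩
    have h' := congrArg (fun z => (e z : C)) h
    simp only [map_smul, LinearEquiv.apply_symm_apply, map_zero, Submodule.coe_zero] at h'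
    exact ((mul_eq_zero.1 (show r * x = 0 from h')).resolve_right hx0) ▸ zero_mem _
  have h2 : 2 ≤ LocCoh.idealDepth I K := by
    rw [show (2 : ℕ∞) = ((2 : ℕ) : ℕ∞) from rfl, CommAlgDim.le_idealDepth_iff]
    refine CommAlgDim.hasSeqIn_of_forall_localization 2 K fun P _ hIP => ?_
    refine (CommAlgDim.le_depth_iff 2).1 ?_
    have hP := hS P
    obtain ⟨x, hx, hx0⟩ := Submodule.exists_mem_ne_zero_of_ne_bot hI
    obtain ⟨q, hqP, hq⟩ := Ideal.IsPrime.exists_mem_prime_of_ne_bot (‹P.IsPrime›) fun h => hx0 (by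
      have := h ▸ hIP hx
      exact this)
    have hdim : ((2 : ℕ) : WithBot ℕ∞) ≤
        Module.supportDim (Localization.AtPrime P) (LocalizedModule P.primeCompl K) := by
      let c := IsLocalization.AtPrime.primeSpectrumOrderIso (Localization.AtPrime P) P
      have hqp : (Ideal.span {q}).IsPrime := (Ideal.span_singleton_prime hq.ne_zero).2 hq
      have hqlt : Ideal.span {q} < P :=
        lt_of_le_of_ne ((Ideal.span_singleton_le_iff_mem _).2 hqP) fun h => hp q hq (h ▸ hIP)
      let P0 : PrimeSpectrum C := ⟨⊥, Ideal.isPrime_bot⟩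
      let P1 : PrimeSpectrum C := ⟨Ideal.span {q}, hqp⟩
      let P2 : PrimeSpectrum C := ⟨P, ‹_›⟩
      have h01 : P0 < P1 := lt_of_le_of_ne bot_le fun h => hq.ne_zero (by
        have hh : (⊥ : Ideal C) = Ideal.span {q} := congrArg PrimeSpectrum.asIdeal h
        have := Ideal.mem_span_singleton_self q
        rw [← hh] at this
        exact this)
      have h12 : P1 < P2 := hqlt
      have hl : ∀ R : PrimeSpectrum C, ∀ hR : R ≤ P2, c.symm ⟨R, hR⟩ ∈
          Module.support (Localization.AtPrime P) (LocalizedModule P.primeCompl K) := fun R hR => by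
        refine (DepthTwoLib.mem_support_localized_iff P K _).2 ?_
        have h : PrimeSpectrum.comap (algebraMap C (Localization.AtPrime P)) (c.symm ⟨R, hR⟩) =
            (c (c.symm ⟨R, hR⟩)).1 := PrimeSpectrum.ext rfl
        rw [h, OrderIso.apply_symm_apply]
        exact hsupp R
      let l : LTSeries (Module.support (Localization.AtPrime P) (LocalizedModule P.primeCompl K)) :=
        ((RelSeries.singleton _ ⟨c.symm ⟨P2, show P2 ≤ P2 from le_rfl⟩, hl P2 le_rfl⟩).cons ⟨c.symm ⟨P1, h12.le⟩, hl _ h12.le⟩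
          (by exact c.symm.lt_iff_lt.2 h12)).cons ⟨c.symm ⟨P0, (h01.trans h12).le⟩, hl _ (h01.trans h12).le⟩
          (by
            rw [RelSeries.head_cons]
            exact c.symm.lt_iff_lt.2 h01)
      exact Order.LTSeries.length_le_krullDim l
    rw [min_eq_left hdim] at hP
    exact WithBot.coe_le_coe.1 hP
  obtain ⟨m, hm⟩ := ((DepthTwoLib.two_le_iff).1 h2).2 e.symm.toLinearMap
  refine htop ((Ideal.eq_top_iff_one I).2 ?_)
  obtain ⟨x, hx, hx0⟩ := Submodule.exists_mem_ne_zero_of_ne_bot hI
  have h' : x = x * (e m : C) := by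
    have := congrArg (fun z => (e z : C)) (hm ⟨x, hx⟩)
    simpa using this
  have h1 : (e m : C) = 1 := mul_left_cancel₀ hx0 (by rw [← h', mul_one])
  exact h1 ▸ (e m).2

theorem gorenstein_of_ufd (B : Type u) [CommRing B] [LocCoh.IsGorensteinLocalRing B] (g : B →+* C)
    (hg : Function.Surjective g) [LocCoh.IsCohenMacaulayLocalRing C] [UniqueFactorizationMonoid C] :
    LocCoh.IsGorensteinLocalRing C := by
  obtain ⟨d, hd⟩ := CommAlgDim.exists_ringKrullDim_eq (R := C)
  rcases Nat.eq_zero_or_pos d with rfl | hd0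
  · haveI : Ring.KrullDimLE 0 C := Ring.krullDimLE_iff.2 hd.le
    haveI : IsRegularLocalRing C := by
      have hf : IsField C := Ring.KrullDimLE.isField_of_isDomain
      letI := hf.toField
      infer_instance
    exact Groth.Agent.S0342.result C
  obtain ⟨E, _, _, f, hf⟩ := InjHullLib.exists_injectiveHull (R := C) (ResidueField C)
  obtain ⟨K, hK, ⟨eK⟩⟩ := Groth.Agent.S7708.result C d hd E f hf B g hg
  haveI := hK
  have hEnd := Groth.Agent.S7703.result C d hd E f hf K eK
  haveI : Nontrivial K := by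
    rw [← not_subsingleton_iff_nontrivial]
    intro h
    exact one_ne_zero (hEnd.1 (LinearMap.ext fun x => Subsingleton.elim _ _) : (1 : C) = 0)
  have hass := Groth.Agent.S7692.result C d hd E f hf K eK hd0
  haveI : NoZeroSMulDivisors C K := ⟨fun {c x} hcx => by
    by_contra h
    push Not at h
    have h1 : c ∈ ⋃ q ∈ associatedPrimes C K, (q : Set C) := by
      rw [biUnion_associatedPrimes_eq_compl_regular]
      exact fun hreg => h.2 (hreg.right_eq_zero_of_smul hcx)
    simp only [Set.mem_iUnion] at h1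
    obtain ⟨q, hq, hcq⟩ := h1
    have hq' : q.IsPrime ∧ ringKrullDim (C ⧸ q) = d := by rw [hass] at hq; exact hq
    haveI := hq'.1
    have hne : q ≠ ⊥ := fun h0 => h.1 (by
      have hc0 : c ∈ (⊥ : Ideal C) := h0 ▸ hcq
      exact hc0)
    obtain ⟨a, haq, ha⟩ := Submodule.exists_mem_ne_zero_of_ne_bot hne
    have h2 := ringKrullDim_quotient_succ_le_of_nonZeroDivisor (R := C) (mem_nonZeroDivisors_of_ne_zero ha)
    have h3 : ringKrullDim (C ⧸ q) ≤ ringKrullDim (C ⧸ Ideal.span {a}) :=
      ringKrullDim_le_of_surjective (Ideal.Quotient.factor ((Ideal.span_singleton_le_iff_mem _).2 haq))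
        (Ideal.Quotient.factor_surjective _)
    rw [hq'.2] at h3
    have h4 := (add_le_add_left h3 1).trans h2
    rw [hd] at h4
    exact absurd h4 (by exact_mod_cast Nat.not_succ_le_self d)⟩
  obtain ⟨I, hI, ⟨e⟩⟩ := exists_ideal_equiv K fun θ => (hEnd.2 θ).imp fun _ h => h.symm
  exact (Groth.Agent.S7701.result C d hd E f hf K eK).2
    (nonempty_equiv_ring I hI K e (Groth.Agent.S7696.result C d hd E f hf K eK))

end MurthyLib
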